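import Cfsg.Agent.Lib.ThreeTrans.Classif.UnitFour.UnitConj
import Cfsg.Agent.Lib.ThreeTrans.Classif.Points
import Cfsg.Agent.Lib.ThreeTrans.Classif.KillUnitary

/-!
# The four dimensional hermitian space over four elements

Its isotropic points are the points of norm one of a five dimensional space over three elements, with
commuting and conjugation corresponding.
-/

set_option autoImplicit false

namespace CfsgLib.ThreeTrans.Classif.UnitFour

open Cfsg CfsgLib.ThreeTrans
open QuadraticMap SmallIso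

universe v

variable {Y : Type v} [Group Y] {E : Set Y}

/-! ### The four dimensional hermitian space -/

/-- The isotropic points of a four dimensional hermitian space over four elements are the points of
norm one of a five dimensional space over three elements. -/
theorem unitFour_refl {F : Type} [Field F] [Fintype F] {ψ : Y → Fin 4 → F}
    (hE : UnitPts E (hermForm 4 F 2) ψ) :
    ∃ (Q : QuadraticForm (ZMod 3) (Fin 5 → ZMod 3)) (c : ZMod 3) (ψ₂ : Y → Fin 5 → ZMod 3),
      ReflPts E Q c ψ₂ ∧ polarGramDet (⇑Q) * (2 * c) = 1 := by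
  classical
  obtain ⟨θ, θ0, θadd, θmul⟩ := exists_coord F hE.card
  have hherm : ∀ u v : Fin 4 → ZMod 2 × ZMod 2,
      hermForm 4 F 2 (θ ∘ u) (θ ∘ v) = θ (fherm u v) := fun u v => by
    simp only [hermForm, fherm, Fin.sum_univ_four, θadd, θmul, Function.comp_apply, pow_two]
  have hscal : ∀ a u, (θ ∘ fun l => fmul a (u l) : Fin 4 → F) = θ a • (θ ∘ u) := fun a u =>
    funext fun l => θmul _ _
  have hP0 : ∀ i, (θ ∘ unitPt i : Fin 4 → F) ≠ 0 := fun i h => (unit_pt i).1
    (funext fun l => θ.injective ((congrFun h l).trans θ0.symm))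
  have huniq : ∀ i j, ∀ x : F, (θ ∘ unitPt j : Fin 4 → F) = x • (θ ∘ unitPt i) → i = j := fun i j x h => by
    obtain ⟨a, rfl⟩ := θ.surjective x
    rw [← hscal] at h
    exact unit_inj i j a (funext fun l => θ.injective (congrFun h l))
  have hidx : ∀ a ∈ E, ∃ i, ∃ x : F, x ≠ 0 ∧ ψ a = x • (θ ∘ unitPt i) := fun a ha => by
    obtain ⟨u, hu⟩ : ∃ u, θ ∘ u = ψ a := ⟨θ.symm ∘ ψ a, by ext k; simp⟩
    have hu0 : u ≠ 0 := fun h => hE.ne a ha (by rw [← hu, h]; funext k; exact θ0)
    have hi := hE.iso a ha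
    rw [← hu, hherm, ← θ0] at hi
    obtain ⟨i, x, rfl⟩ := unit_cov u hu0 (θ.injective hi)
    refine ⟨i, θ x, fun h0 => hE.ne a ha ?_, by rw [← hu, hscal]⟩
    rw [← hu, hscal, h0, zero_smul]
  let I : Y → Fin 45 := fun a =>
    if h : ∃ i, ∃ x : F, x ≠ 0 ∧ ψ a = x • (θ ∘ unitPt i) then h.choose else 0
  have hI : ∀ a i, ∀ x : F, x ≠ 0 → ψ a = x • (θ ∘ unitPt i) → I a = i := fun a i x hx h => by
    have h' : ∃ i, ∃ x : F, x ≠ 0 ∧ ψ a = x • (θ ∘ unitPt i) := ⟨i, x, hx, h⟩
    obtain ⟨y, hy, hy'⟩ := h'.choose_spec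
    show dite _ _ _ = i
    rw [dif_pos h']
    refine huniq _ _ (x⁻¹ * y) ?_ |>.trans rfl
    rw [mul_smul, ← hy', h, inv_smul_smul₀ hx]
  have hI' : ∀ a ∈ E, ∃ x : F, x ≠ 0 ∧ ψ a = x • (θ ∘ unitPt (I a)) := fun a ha => by
    obtain ⟨i, x, hx, h⟩ := hidx a ha
    rw [hI a i x hx h]
    exact ⟨x, hx, h⟩
  choose! X hX hψ using hI'
  have hIinj : ∀ a ∈ E, ∀ b ∈ E, I a = I b → a = b := fun a ha b hb h =>
    hE.inj a ha b hb ⟨X b * (X a)⁻¹, by
      rw [hψ a ha, hψ b hb, h, smul_smul, inv_mul_cancel_right₀ (hX a ha)]⟩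
  have hIsurj : ∀ i, ∃ a ∈ E, I a = i := fun i => by
    obtain ⟨a, ha, x, hx⟩ := hE.surj _ (hP0 i) (by rw [hherm, (unit_pt i).2, θ0])
    rw [hψ a ha, smul_smul] at hx
    exact ⟨a, ha, huniq _ _ _ hx⟩
  have hcube : ∀ x : F, x ≠ 0 → x * x ^ 2 = 1 := fun x hx => by
    have := FiniteField.pow_card_sub_one_eq_one x hx
    rw [hE.card] at this
    linear_combination this
  refine ⟨Q5, 1, fun a => onePt (I a), ⟨Q5_nondeg, one_ne_zero, fun a _ => ?_, fun a ha b hb h => ?_,
    fun z hz => ?_, fun a ha b hb => ?_, fun a ha b hb => ?_⟩, by rw [Q5_det]; decide⟩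
  · rw [Q5_coe]; exact one_pt _
  · exact hIinj a ha b hb (one_inj _ _ (h.imp Eq.symm (fun k => by
      show onePt (I b) = -onePt (I a)
      rw [show onePt (I a) = -onePt (I b) from k, neg_neg])))
  · rw [Q5_coe] at hz
    obtain ⟨i, hi⟩ := one_cov z hz
    obtain ⟨a, ha, rfl⟩ := hIsurj i
    exact ⟨a, ha, hi.imp Eq.symm (fun k => by rw [k, neg_neg])⟩
  · rw [hE.comm a ha b hb, hψ a ha, hψ b hb, Q5_coe]
    have e : hermForm 4 F 2 (X a • (θ ∘ unitPt (I a))) (X b • (θ ∘ unitPt (I b))) =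
        X a * X b ^ 2 * θ (fherm (unitPt (I a)) (unitPt (I b))) := by
      rw [← hherm]
      simp only [hermForm, Finset.mul_sum, Pi.smul_apply, smul_eq_mul]
      exact Finset.sum_congr rfl fun l _ => by ring
    rw [e, mul_eq_zero, or_iff_right (mul_ne_zero (hX a ha) (pow_ne_zero 2 (hX b hb))), ← θ0,
      θ.injective.eq_iff, ← unit_comm]
    exact or_congr_left ⟨fun h => hIinj a ha b hb h, fun h => by rw [h]⟩
  · have hk := one_conj (I a) (I b)
    obtain ⟨x, hx0, hx⟩ := unit_conj (I a) (I b)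
    set k := oneOp (I a) (I b) with hkdef
    obtain ⟨r, hr, hra⟩ := hE.conj a ha b hb
    have e : hermForm 4 F 2 (X b • (θ ∘ unitPt (I b))) (X a • (θ ∘ unitPt (I a))) =
        X b * X a ^ 2 * θ (fherm (unitPt (I b)) (unitPt (I a))) := by
      rw [← hherm]
      simp only [hermForm, Finset.mul_sum, Pi.smul_apply, smul_eq_mul]
      exact Finset.sum_congr rfl fun l _ => by ring
    have hx' : (θ ∘ unitPt (I b) : Fin 4 → F) +
        θ (fherm (unitPt (I b)) (unitPt (I a))) • (θ ∘ unitPt (I a)) = θ x • (θ ∘ unitPt k) := by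
      rw [← hscal x, ← hx]
      exact funext fun l => ((θadd _ _).trans (by rw [θmul]; rfl)).symm
    rw [hψ b hb, hψ a ha, e, smul_smul,
      show X b * X a ^ 2 * θ (fherm (unitPt (I b)) (unitPt (I a))) * X a =
        X b * θ (fherm (unitPt (I b)) (unitPt (I a))) by
        linear_combination (X b * θ (fherm (unitPt (I b)) (unitPt (I a)))) * hcube _ (hX a ha),
      mul_smul, ← smul_add, hx', smul_smul, smul_smul] at hra
    have hθx : θ x ≠ 0 := fun h => hx0 (θ.injective (h.trans θ0.symm))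
    show onePt (I (a * b * a)) = _ ∨ onePt (I (a * b * a)) = _
    rw [hI _ k _ (mul_ne_zero (mul_ne_zero hr (hX b hb)) hθx) hra, Q5_coe, div_one]
    exact hk

end CfsgLib.ThreeTrans.Classif.UnitFour
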