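import Cfsg.Agent.Lib.ThreeTrans.Classif.SmallIso

/-!
# The third member on the table of the norm-one points in dimension five
-/

set_option autoImplicit false

namespace CfsgLib.ThreeTrans.Classif.UnitFour

open QuadraticMap SmallIso

/-- The code of a vector over three elements. -/
def code5 (v : Fin 5 → ZMod 3) : ℕ :=
  (v 0).val + 3 * (v 1).val + 9 * (v 2).val + 27 * (v 3).val + 81 * (v 4).val

/-- The index of a vector of norm one. -/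
def oneIdx (v : Fin 5 → ZMod 3) : Fin 45 :=
  ([0, 0, 0, 15, 0, 0, 15, 0, 0, 16, 0, 0, 0, 0, 0, 0, 0, 0, 16, 0, 0, 0, 0, 0, 0, 0, 0, 20, 0, 0, 0, 0, 0, 0, 0, 0, 0, 0, 0, 0, 32, 28, 0, 41, 43, 0, 0, 0, 0, 8, 5, 0, 14, 11, 20, 0, 0, 0, 0, 0, 0, 0, 0, 0, 0, 0, 0, 11, 14, 0, 5, 8, 0, 0, 0, 0, 43, 41, 0, 28, 32, 24, 0, 0, 0, 0, 0, 0, 0, 0, 0, 0, 0, 0, 31, 33, 0, 37, 39, 0, 0, 0, 0, 10, 13, 0, 4, 7, 0, 0, 0, 0, 27, 29, 0, 42, 38, 0, 1, 2, 25, 0, 0, 35, 0, 0, 0, 23, 21, 40, 0, 0, 34, 0, 0, 0, 0, 0, 0, 6, 3, 0, 12, 9, 0, 18, 22, 44, 0, 0, 26, 0, 0, 0, 17, 19, 30, 0, 0, 36, 0, 0, 24, 0, 0, 0, 0, 0, 0, 0, 0, 0, 0, 0, 0, 7, 4, 0, 13, 10, 0, 0, 0, 0, 39, 37, 0, 33, 31, 0, 0, 0, 0, 9, 12, 0, 3, 6, 0, 19, 17, 36, 0, 0, 30, 0, 0, 0, 22, 18, 26, 0, 0, 44, 0, 0, 0, 0, 0, 0, 38, 42, 0, 29, 27, 0, 21, 23, 34, 0, 0, 40, 0, 0, 0, 2, 1, 35,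 0, 0, 25, 0, 0] : List (Fin 45)).getD (code5 v) 0

/-- The third member. -/
def oneOp (i j : Fin 45) : Fin 45 :=
  oneIdx (onePt j - polar sq5 (onePt i) (onePt j) • onePt i)

theorem one_conj : ∀ i j,
    onePt (oneOp i j) = onePt j - polar sq5 (onePt i) (onePt j) • onePt i ∨
      onePt (oneOp i j) = -(onePt j - polar sq5 (onePt i) (onePt j) • onePt i) := by decide +kernel

end CfsgLib.ThreeTrans.Classif.UnitFour
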