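import Cfsg.Agent.Lib.ThreeTrans.Classif.UnitFour.OneConj

/-!
# The third member on the table of the isotropic points of the four dimensional hermitian space
-/

set_option autoImplicit false

namespace CfsgLib.ThreeTrans.Classif.UnitFour

open QuadraticMap SmallIso

/-- The check at one pair. -/
abbrev UnitOk (i j : Fin 45) : Prop := ∃ a, a ≠ 0 ∧
  (fun l => unitPt j l + fmul (fherm (unitPt j) (unitPt i)) (unitPt i l)) = fun l => fmul a (unitPt (oneOp i j) l)

theorem unit_low : ∀ i : Fin 15, ∀ j, UnitOk (i.castLE (by norm_num)) j := by decide +kernel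

theorem unit_mid : ∀ i : Fin 15, ∀ j, UnitOk ⟨i.val + 15, by omega⟩ j := by decide +kernel

theorem unit_high : ∀ i : Fin 15, ∀ j, UnitOk ⟨i.val + 30, by omega⟩ j := by decide +kernel

theorem unit_conj (i j : Fin 45) : UnitOk i j := by
  rcases Nat.lt_or_ge i.val 15 with h | h
  · exact unit_low ⟨i.val, h⟩ j
  rcases Nat.lt_or_ge i.val 30 with h' | h'
  · simpa [Nat.sub_add_cancel h] using unit_mid ⟨i.val - 15, by omega⟩ j
  · simpa [Nat.sub_add_cancel h'] using unit_high ⟨i.val - 30, by omega⟩ j

end CfsgLib.ThreeTrans.Classif.UnitFour
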